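import Cfsg.Agent.H482.Tab.Ppd

/-!
# Transitive subgroups of `GL_6(2)` with a normal `p`-subgroup
-/

set_option autoImplicit false
set_option linter.unusedSectionVars false
set_option linter.style.haveILetI false

namespace Cfsg.Agent.H482.Tab

open Module

variable {V : Type*} [AddCommGroup V] [Module (ZMod 2) V] [Finite V]
variable {A : Type*} [Group A] [Finite A] {φ : A →* Module.End (ZMod 2) V} {w₁ : V}

namespace TL

section
variable (H : TL 2 V A φ w₁)
include H

theorem ker_pow (hV : Nat.card V = 64) {t : A} (ht : t ≠ 1) :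
    ∃ k, k < 6 ∧ Nat.card (LinearMap.ker (φ t - 1)) = 2 ^ k := by
  have : FiniteDimensional (ZMod 2) V := Module.Finite.of_finite
  have h1 : Nat.card (LinearMap.ker (φ t - 1)) = 2 ^ finrank (ZMod 2) (LinearMap.ker (φ t - 1)) := by
    rw [Module.natCard_eq_pow_finrank (K := ZMod 2), Nat.card_zmod]
  refine ⟨_, ?_, h1⟩
  have h2 : Nat.card (LinearMap.ker (φ t - 1)) < 64 := by
    rw [← hV]
    by_contra hcon
    push Not at hcon
    have h3 : Function.Surjective ((LinearMap.ker (φ t - 1)).subtype) := by
      have h4 : Nat.card (LinearMap.ker (φ t - 1)) = Nat.card V :=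
        le_antisymm (Nat.card_le_card_of_injective _ (Submodule.subtype_injective _)) hcon
      exact ((Nat.bijective_iff_injective_and_card _).2 ⟨Submodule.subtype_injective _, h4⟩).2
    apply ht
    apply H.inj
    rw [map_one]
    apply LinearMap.ext
    intro v
    obtain ⟨u, rfl⟩ := h3 v
    have := u.2
    rw [LinearMap.mem_ker, LinearMap.sub_apply, sub_eq_zero] at this
    exact this
  rw [h1] at h2
  by_contra hcon
  push Not at hcon
  have : 2 ^ 6 ≤ 2 ^ finrank (ZMod 2) (LinearMap.ker (φ t - 1)) := Nat.pow_le_pow_right (by norm_num) hcon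
  omega


end

theorem six (H : TL 2 V A φ w₁) {p : ℕ} (hp : p.Prime) {Q : Subgroup A} (hQ : Q.Normal) (hQ1 : Q ≠ ⊥)
    (hQp : IsPGroup p ↥Q)
    (hyp : ∀ r : ℕ, r.Prime → r ≠ p → (Nat.card V - 1).factorization r ≤ (Nat.card (stab φ w₁)).factorization r)
    (hd : finrank (ZMod 2) V = 6) : False := by
  classical
  have hV : Nat.card V = 64 := by
    have := card_V (r₀ := 2) (V := V)
    rw [hd] at this
    norm_num at this
    exact this
  have hnf := H.no_fixed hQ hQ1
  have hA := H.card_A
  have hT : Nat.card (stab φ w₁) ∣ 319979520 := by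
    have h1 := H.card_stab_dvd (d := 5) hd
    have h2 : (∏ i : Fin 5, (2 ^ (5 + 1) - 2 ^ ((i : ℕ) + 1))) = 319979520 := by decide
    rwa [h2] at h1
  have hA' : Nat.card A ∣ 63 * 319979520 := by
    rw [hA, hV]; exact Nat.mul_dvd_mul_left _ hT
  -- centralizing element with few fixed vectors
  have key : ∀ (t : A) (q : ℕ) (hq : q.Prime), (∃ k, t ^ q ^ k = 1) → (∀ x ∈ Q, x * t = t * x) →
      (¬ Nat.card (LinearMap.ker (φ t - 1)) ≡ 1 [MOD p]) → False := by
    intro t q hq ht hc hm
    obtain ⟨u, hu, hu0, hfix⟩ := exists_fixed φ hp hQp (LinearMap.ker (φ t - 1) : Set V) (by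
      intro g hg u hu
      rw [SetLike.mem_coe, LinearMap.mem_ker, LinearMap.sub_apply, sub_eq_zero] at hu ⊢
      change (φ t * φ g) u = φ g u
      rw [← map_mul, ← hc g hg, map_mul]
      change φ g (φ t u) = φ g u
      have : φ t u = u := hu
      rw [this]) (Submodule.zero_mem _) hm
    exact hnf ⟨u, hu0, hfix⟩
  have hw : ∀ t ∈ stab φ w₁, Nat.card (LinearMap.ker (φ t - 1)) ≠ 1 := by
    intro t ht h
    rw [Nat.card_eq_one_iff_unique] at h
    obtain ⟨h1, -⟩ := h
    have h2 : w₁ ∈ LinearMap.ker (φ t - 1) := by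
      rw [LinearMap.mem_ker, LinearMap.sub_apply, sub_eq_zero]; exact ht
    have h3 : (⟨w₁, h2⟩ : LinearMap.ker (φ t - 1)) = 0 := Subsingleton.elim _ _
    exact H.ne (congrArg Subtype.val h3)
  have hp37 : p ∣ 63 := by
    by_contra hcon
    obtain ⟨u, -, hu0, hfix⟩ := exists_fixed φ hp hQp (Set.univ : Set V) (fun _ _ _ _ => Set.mem_univ _)
      (Set.mem_univ _) (by
        rw [Nat.card_congr (Equiv.Set.univ V), hV]
        intro h
        exact hcon ((Nat.modEq_iff_dvd' (by norm_num)).1 h.symm))
    exact hnf ⟨u, hu0, hfix⟩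
  have hp' : p = 3 ∨ p = 7 := by
    have h1 : p ∣ 3 ^ 2 * 7 := by norm_num; exact hp37
    rcases hp.dvd_mul.1 h1 with h2 | h2
    · left; exact (Nat.prime_dvd_prime_iff_eq hp Nat.prime_three).1 (hp.dvd_of_dvd_pow h2)
    · right; exact (Nat.prime_dvd_prime_iff_eq hp (by norm_num)).1 h2
  rw [hV] at hyp
  have hQA : Nat.card Q ∣ 63 * 319979520 := (Subgroup.card_subgroup_dvd_card Q).trans hA'
  have : Fact p.Prime := ⟨hp⟩
  obtain ⟨a, ha⟩ := (IsPGroup.iff_card (p := p) (G := ↥Q)).1 hQp
  rcases hp' with rfl | rfl
  · -- p = 3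
    have : Fact (Nat.Prime 3) := ⟨Nat.prime_three⟩
    have : Fact (Nat.Prime 7) := ⟨by norm_num⟩
    have h7 : 7 ∣ Nat.card (stab φ w₁) := by
      have h1 := hyp 7 (by norm_num) (by norm_num)
      have h2 : 0 < (64 - 1 : ℕ).factorization 7 :=
        (show Nat.Prime 7 by norm_num).factorization_pos_of_dvd (by norm_num) (by norm_num)
      by_contra h3
      rw [Nat.factorization_eq_zero_of_not_dvd h3] at h1
      omega
    obtain ⟨t₀, ht₀⟩ := exists_prime_orderOf_dvd_card' 7 h7
    set t : A := (t₀ : A) with ht
    have hto : orderOf t = 7 := by rw [ht, Subgroup.orderOf_coe, ht₀]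
    have ht7 : t ^ 7 = 1 := by rw [← hto, pow_orderOf_eq_one]
    have ht1 : t ≠ 1 := by
      intro h
      rw [h, orderOf_one] at hto
      omega
    have ha4 : a ≤ 4 := by
      by_contra h
      push Not at h
      have h1 : 3 ^ 5 ∣ 63 * 319979520 := ((pow_dvd_pow 3 h).trans (by rw [← ha])).trans hQA
      norm_num at h1
    -- t centralizes Q
    have hcen : ∀ x ∈ Q, x * t = t * x := by
      have hZ : IsPGroup 7 (Subgroup.zpowers t) := by
        refine IsPGroup.of_card (n := 1) ?_
        rw [Nat.card_zpowers, hto, pow_one]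
      letI : MulAction (Subgroup.zpowers t) ↥Q :=
        { smul := fun g x => ⟨(g : A) * x * (g : A)⁻¹, hQ.conj_mem x x.2 g⟩
          one_smul := fun x => Subtype.ext (by
            change (1 : A) * x * (1 : A)⁻¹ = x
            group)
          mul_smul := fun g h x => Subtype.ext (by
            change ((g : A) * (h : A)) * x * ((g : A) * (h : A))⁻¹ = g * (h * x * (h : A)⁻¹) * (g : A)⁻¹
            group) }
      have h1 := hZ.card_modEq_card_fixedPoints ↥Q
      set C : Subgroup ↥Q := (Subgroup.centralizer {t}).subgroupOf Q with hC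
      have h2 : Nat.card (MulAction.fixedPoints (Subgroup.zpowers t) ↥Q) = Nat.card C := by
        refine Nat.card_congr (Equiv.subtypeEquivRight fun x => ?_)
        rw [MulAction.mem_fixedPoints, hC, Subgroup.mem_subgroupOf, Subgroup.mem_centralizer_singleton_iff]
        constructor
        · intro h
          have h3 := congrArg Subtype.val (h ⟨t, Subgroup.mem_zpowers t⟩)
          change t * x * t⁻¹ = x at h3
          exact (mul_inv_eq_iff_eq_mul.1 h3).symm
        · rintro h ⟨_, m, rfl⟩
          refine Subtype.ext ?_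
          change t ^ m * x * (t ^ m)⁻¹ = x
          have h3 : Commute t (x : A) := h.symm
          rw [(h3.zpow_left m).eq, mul_inv_cancel_right]
      obtain ⟨b, hb⟩ := (IsPGroup.iff_card (p := 3) (G := ↥C)).1 (hQp.to_subgroup C)
      rw [h2, ha, hb] at h1
      have hba : b ≤ a := by
        have h3 : 3 ^ b ≤ 3 ^ a := by
          rw [← hb, ← ha]; exact Subgroup.card_le_card_group C
        exact (Nat.pow_le_pow_iff_right (by norm_num)).1 h3
      have hab : a = b := by
        have h4 : b ≤ 4 := hba.trans ha4
        interval_cases a <;> interval_cases b <;> first | rfl | (exfalso; revert h1; decide)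
      have h3 : C = ⊤ := by
        apply Subgroup.eq_top_of_card_eq
        rw [hb, ha, hab]
      intro x hx
      have h4 : (⟨x, hx⟩ : Q) ∈ C := by rw [h3]; exact Subgroup.mem_top _
      exact Subgroup.mem_centralizer_singleton_iff.1 h4
    obtain ⟨k, hk6, hk⟩ := H.ker_pow hV ht1
    have h1 := card_modEq (φ := φ) H (show Nat.Prime 7 by norm_num) t ⟨1, by rw [pow_one, ht7]⟩
    have h2 := hw t t₀.2
    refine key t 7 (by norm_num) ⟨1, by rw [pow_one, ht7]⟩ hcen ?_
    rw [hk] at h1 h2 ⊢
    rw [hV] at h1
    interval_cases k <;> revert h1 h2 <;> decide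
  · -- p = 7
    have : Fact (Nat.Prime 3) := ⟨Nat.prime_three⟩
    have : Fact (Nat.Prime 7) := ⟨by norm_num⟩
    have h9 : 3 ^ 2 ∣ Nat.card (stab φ w₁) := by
      have h1 := hyp 3 (by norm_num) (by norm_num)
      have h2 : 2 ≤ (64 - 1 : ℕ).factorization 3 :=
        (Nat.prime_three.pow_dvd_iff_le_factorization (by norm_num)).1 (by norm_num)
      exact (Nat.prime_three.pow_dvd_iff_le_factorization Nat.card_pos.ne').2 (h2.trans h1)
    have ha2 : a ≤ 2 := by
      by_contra h
      push Not at h
      have h1 : 7 ^ 3 ∣ 63 * 319979520 := ((pow_dvd_pow 7 h).trans (by rw [← ha])).trans hQA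
      norm_num at h1
    have ha0 : a ≠ 0 := by
      rintro rfl
      rw [pow_zero] at ha
      exact hQ1 ((Subgroup.card_eq_one).1 ha)
    have ha12 : a = 1 ∨ a = 2 := by omega
    rcases ha12 with rfl | rfl
    · -- |Q| = 7
      rw [pow_one] at ha
      obtain ⟨R, hR⟩ := Sylow.exists_subgroup_card_pow_prime 3 h9
      have hcyc : IsCyclic ↥Q := isCyclic_of_prime_card ha
      let f : ↥R →* MulAut ↥Q := (MulAut.conjNormal (H := Q)).comp ((stab φ w₁).subtype.comp R.subtype)
      have hf : ¬ Function.Injective f := by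
        intro hinj
        have h1 := Subgroup.card_dvd_of_injective f hinj
        rw [hR, IsCyclic.card_mulAut, ha] at h1
        have h2 : Nat.totient 7 = 6 := by decide
        rw [h2] at h1
        norm_num at h1
      rw [injective_iff_map_eq_one] at hf
      push Not at hf
      obtain ⟨t₀, ht₀, ht₁⟩ := hf
      set t : A := ((t₀ : stab φ w₁) : A) with ht
      have ht1 : t ≠ 1 := by
        intro h
        exact ht₁ (Subtype.ext (Subtype.ext h))
      have ht9 : t ^ 3 ^ 2 = 1 := by
        have h1 : t₀ ^ Nat.card R = 1 := pow_card_eq_one'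
        rw [hR] at h1
        have h2 := congrArg (fun x : R => ((x : stab φ w₁) : A)) h1
        exact h2
      have hcen : ∀ x ∈ Q, x * t = t * x := by
        intro x hx
        have h1 := DFunLike.congr_fun ht₀ (⟨x, hx⟩ : Q)
        have h2 := congrArg Subtype.val h1
        change t * x * t⁻¹ = x at h2
        exact (mul_inv_eq_iff_eq_mul.1 h2).symm
      obtain ⟨k, hk6, hk⟩ := H.ker_pow hV ht1
      have h1 := card_modEq (φ := φ) H Nat.prime_three t ⟨2, ht9⟩
      have h2 := hw t (t₀ : stab φ w₁).2
      refine key t 3 Nat.prime_three ⟨2, ht9⟩ hcen ?_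
      rw [hk] at h1 h2 ⊢
      rw [hV] at h1
      interval_cases k <;> revert h1 h2 <;> decide
    · -- |Q| = 49
      let _ : Fintype V := Fintype.ofFinite V
      let _ : Fintype ↥Q := Fintype.ofFinite ↥Q
      letI : MulAction ↥Q V :=
        { smul := fun g v => φ g v
          one_smul := fun v => by change φ (1 : A) v = v; rw [map_one]; rfl
          mul_smul := fun g h v => by
            change φ ((g : A) * (h : A)) v = φ g (φ h v)
            rw [map_mul]; rfl }
      have hQ49 : Fintype.card ↥Q = 49 := by rw [← Nat.card_eq_fintype_card, ha]; norm_num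
      have hV64 : Fintype.card V = 64 := by rw [← Nat.card_eq_fintype_card, hV]
      let fx : ↥Q → ℕ := fun z => (Finset.univ.filter fun v : V => φ z v = v).card
      let st : V → ℕ := fun v => (Finset.univ.filter fun z : ↥Q => φ z v = v).card
      have hdc : ∑ z, fx z = ∑ v, st v := by
        simp only [fx, st, Finset.card_filter]
        exact Finset.sum_comm
      have hfx : ∀ z : ↥Q, fx z = Nat.card (LinearMap.ker (φ z - 1)) := by
        intro z
        have h1 : Nat.card (LinearMap.ker (φ z - 1)) = Nat.card {v : V // φ z v = v} := by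
          refine Nat.card_congr (Equiv.subtypeEquivRight fun v => ?_)
          rw [LinearMap.mem_ker, LinearMap.sub_apply, sub_eq_zero]
          exact Iff.rfl
        rw [h1, Nat.card_eq_fintype_card, Fintype.card_subtype]
      have hfx1 : fx 1 = 64 := by
        have h1 : (Finset.univ.filter fun v : V => φ ((1 : ↥Q) : A) v = v) = Finset.univ := by
          rw [Finset.filter_eq_self]
          intro v _
          rw [Subgroup.coe_one, map_one]; rfl
        change (Finset.univ.filter fun v : V => φ ((1 : ↥Q) : A) v = v).card = 64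
        rw [h1, Finset.card_univ, hV64]
      have hfxle : ∀ z : ↥Q, z ≠ 1 → fx z ≤ 8 ∧ (fx z = 1 ∨ fx z = 8) := by
        intro z hz
        have hz1 : (z : A) ≠ 1 := fun h => hz (Subtype.ext h)
        obtain ⟨k, hk6, hk⟩ := H.ker_pow hV hz1
        have h1 := card_modEq (φ := φ) H (show Nat.Prime 7 by norm_num) (z : A) ⟨2, by
          have h2 : z ^ Nat.card Q = 1 := pow_card_eq_one'
          rw [ha] at h2
          exact congrArg Subtype.val h2⟩
        rw [hfx z]
        rw [hk] at h1 ⊢
        rw [hV] at h1
        interval_cases k <;> revert h1 <;> decide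
      have hst0 : st 0 = 49 := by
        have h1 : (Finset.univ.filter fun z : ↥Q => φ z (0 : V) = 0) = Finset.univ := by
          rw [Finset.filter_eq_self]
          intro z _
          exact map_zero _
        change (Finset.univ.filter fun z : ↥Q => φ z (0 : V) = 0).card = 49
        rw [h1, Finset.card_univ, hQ49]
      have hst : ∀ v : V, v ≠ 0 → st v = st w₁ := by
        intro v hv
        obtain ⟨g, rfl⟩ := H.tr w₁ v H.ne hv
        refine Finset.card_bij' (fun z _ => ⟨g⁻¹ * z * g, by
            have := hQ.conj_mem z z.2 g⁻¹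
            rwa [inv_inv] at this⟩)
          (fun z _ => ⟨g * z * g⁻¹, hQ.conj_mem z z.2 g⟩) ?_ ?_ ?_ ?_
        · intro z hz
          rw [Finset.mem_filter] at hz ⊢
          refine ⟨Finset.mem_univ _, ?_⟩
          change φ (g⁻¹ * z * g) w₁ = w₁
          rw [map_mul, map_mul]
          change φ g⁻¹ (φ z (φ g w₁)) = w₁
          rw [hz.2, inv_apply]
        · intro z hz
          rw [Finset.mem_filter] at hz ⊢
          refine ⟨Finset.mem_univ _, ?_⟩
          change φ (g * z * g⁻¹) (φ g w₁) = φ g w₁
          rw [map_mul, map_mul]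
          change φ g (φ z (φ g⁻¹ (φ g w₁))) = φ g w₁
          rw [inv_apply, hz.2]
        · intro z _
          apply Subtype.ext
          change g * (g⁻¹ * z * g) * g⁻¹ = z
          group
        · intro z _
          apply Subtype.ext
          change g⁻¹ * (g * z * g⁻¹) * g = z
          group
      have hstd : st w₁ ∣ 49 := by
        have h1 : st w₁ = Nat.card ((stab φ w₁).subgroupOf Q) := by
          have h2 : Nat.card ((stab φ w₁).subgroupOf Q) = Nat.card {z : ↥Q // φ z w₁ = w₁} :=
            Nat.card_congr (Equiv.subtypeEquivRight fun z => Iff.rfl)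
          rw [h2, Nat.card_eq_fintype_card, Fintype.card_subtype]
        rw [h1, ← hQ49, ← Nat.card_eq_fintype_card]
        exact Subgroup.card_subgroup_dvd_card _
      have hsumst : ∑ v, st v = 49 + 63 * st w₁ := by
        rw [← Finset.add_sum_erase _ _ (Finset.mem_univ (0 : V)), hst0]
        congr 1
        rw [Finset.sum_congr rfl (fun v hv => hst v (Finset.ne_of_mem_erase hv)), Finset.sum_const,
          Finset.card_erase_of_mem (Finset.mem_univ _), Finset.card_univ, hV64, smul_eq_mul]
      have hsumfx : ∑ z, fx z = 64 + ∑ z ∈ Finset.univ.erase 1, fx z := by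
        rw [← Finset.add_sum_erase _ _ (Finset.mem_univ (1 : ↥Q)), hfx1]
      have hub : ∑ z ∈ Finset.univ.erase (1 : ↥Q), fx z ≤ 48 * 8 := by
        have h1 : ∑ z ∈ Finset.univ.erase (1 : ↥Q), fx z ≤ ∑ z ∈ Finset.univ.erase (1 : ↥Q), 8 :=
          Finset.sum_le_sum fun z hz => (hfxle z (Finset.ne_of_mem_erase hz)).1
        refine h1.trans ?_
        rw [Finset.sum_const, Finset.card_erase_of_mem (Finset.mem_univ _), Finset.card_univ, hQ49, smul_eq_mul]
      have hst7 : st w₁ < 7 := by omega
      have hst1 : st w₁ = 1 := by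
        have h1 : st w₁ ∈ Nat.divisors 49 := Nat.mem_divisors.2 ⟨hstd, by norm_num⟩
        have h2 : Nat.divisors 49 = {1, 7, 49} := by decide
        rw [h2] at h1
        simp only [Finset.mem_insert, Finset.mem_singleton] at h1
        omega
      have hburn := MulAction.sum_card_fixedBy_eq_card_orbits_mul_card_group ↥Q V
      have h49 : 49 ∣ ∑ z, fx z := by
        have h1 : ∑ z : ↥Q, Fintype.card (MulAction.fixedBy V z) = ∑ z, fx z := by
          refine Finset.sum_congr rfl fun z _ => ?_
          change _ = (Finset.univ.filter fun v : V => φ z v = v).card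
          rw [← Fintype.card_subtype]
          exact Fintype.card_congr (Equiv.subtypeEquivRight fun v => Iff.rfl)
        rw [← h1, hburn, hQ49]
        exact Dvd.intro_left _ rfl
      rw [hdc, hsumst, hst1] at h49
      omega

end TL

end Cfsg.Agent.H482.Tab
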