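import Cfsg.Agent.H482.Tab.Lin

/-!
# Transitive linear groups with a normal `p`-subgroup: the cases with a primitive prime divisor, dimension one and two
-/

set_option autoImplicit false
set_option linter.unusedSectionVars false
set_option linter.style.haveILetI false

namespace Cfsg.Agent.H482.Tab

open Module Cfsg.Agent.LieExceptional.SingerCentralizer

/-- `r ∣ a^d - 1` implies `r^(v_r(d)+1) ∣ a^d - 1` -/
theorem fact_lt {a d r : ℕ} (hr : r.Prime) (hd : d ≠ 0) (ha : 2 ≤ a) (h : r ∣ a ^ d - 1) :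
    d.factorization r < (a ^ d - 1).factorization r := by
  have : Fact r.Prime := ⟨hr⟩
  obtain ⟨d', hd'⟩ := Nat.ordProj_dvd d r
  set v := d.factorization r with hv
  have ha1 : 0 < a := by omega
  have hne : a ^ d - 1 ≠ 0 := by
    have : 1 < a ^ d := Nat.one_lt_pow hd (by omega)
    omega
  -- `r ∣ a^d' - 1`
  have hcop : ¬ r ∣ a := by
    intro h1
    have h2 : r ∣ a ^ d := dvd_pow h1 hd
    have h3 : r ∣ 1 := by
      have := Nat.dvd_sub h2 h
      rwa [Nat.sub_sub_self (Nat.one_le_pow _ _ ha1)] at this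
    exact hr.one_lt.ne' (Nat.dvd_one.1 h3)
  have h1 : ((a ^ d' : ℕ) : ℤ) ≡ 1 [ZMOD r] := by
    have e1 : ((a ^ d' : ℕ) : ZMod r) ^ r ^ v = 1 := by
      rw [← Nat.cast_pow, ← pow_mul, mul_comm d', ← hd']
      have h2 : ((a ^ d - 1 : ℕ) : ZMod r) = 0 := (ZMod.natCast_eq_zero_iff _ _).2 h
      rw [Nat.cast_sub (Nat.one_le_pow _ _ ha1), Nat.cast_one, sub_eq_zero] at h2
      exact h2
    have e2 : ((a ^ d' : ℕ) : ZMod r) = 1 := by
      rw [ZMod.pow_card_pow] at e1
      exact e1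
    have e3 : (((a ^ d' : ℕ) : ℤ) : ZMod r) = ((1 : ℤ) : ZMod r) := by
      rw [Int.cast_natCast, Int.cast_one]; exact e2
    exact (ZMod.intCast_eq_intCast_iff _ _ _).1 e3
  have h2 : ∀ k : ℕ, ((r : ℤ) ^ (k + 1)) ∣ (((a ^ d' : ℕ) : ℤ) ^ r ^ k - 1) := by
    intro k
    induction k with
    | zero =>
      rw [pow_zero, pow_one, pow_one]
      exact (Int.modEq_iff_dvd.1 h1.symm)
    | succ k ih =>
      rw [pow_succ r k, pow_mul]
      have h4 : (r : ℤ) ∣ ((a ^ d' : ℕ) : ℤ) ^ r ^ k - 1 := (dvd_pow_self _ (by omega)).trans ih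
      set X := ((a ^ d' : ℕ) : ℤ) ^ r ^ k with hX
      -- X ^ r - 1 = (X - 1) * ∑ X^i and the sum is divisible by r
      have h5 : X ^ r - 1 = (X - 1) * ∑ i ∈ Finset.range r, X ^ i := by
        rw [mul_comm]; exact (geom_sum_mul X r).symm
      rw [h5, pow_succ (r : ℤ) (k + 1)]
      refine mul_dvd_mul ih ?_
      have h6 : (∑ i ∈ Finset.range r, X ^ i) ≡ 0 [ZMOD r] := by
        have h7 : X ≡ 1 [ZMOD r] := (Int.modEq_iff_dvd.2 h4).symm
        have h8 : (∑ i ∈ Finset.range r, X ^ i) ≡ ∑ i ∈ Finset.range r, (1 : ℤ) [ZMOD r] := by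
          refine Int.ModEq.sum fun i _ => ?_
          have := h7.pow i
          rwa [one_pow] at this
        refine h8.trans ?_
        rw [Finset.sum_const, Finset.card_range, nsmul_eq_mul, mul_one]
        exact Int.modEq_zero_iff_dvd.2 dvd_rfl
      exact Int.modEq_zero_iff_dvd.1 h6
  have h3 : r ^ (v + 1) ∣ a ^ d - 1 := by
    have h4 := h2 v
    have h5 : ((a ^ d - 1 : ℕ) : ℤ) = ((a ^ d' : ℕ) : ℤ) ^ r ^ v - 1 := by
      rw [Nat.cast_sub (Nat.one_le_pow _ _ ha1), Nat.cast_one, ← Nat.cast_pow, ← pow_mul, mul_comm d', ← hd']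
    rw [← h5] at h4
    exact_mod_cast h4
  have h4 := (hr.pow_dvd_iff_le_factorization hne).1 h3
  omega

theorem eq_pow_of_primes {s p : ℕ} (hs : s ≠ 0) (h : ∀ r, r.Prime → r ∣ s → r = p) : ∃ k, s = p ^ k :=
  ⟨s.primeFactorsList.length, Nat.eq_prime_pow_of_unique_prime_dvd hs fun {r} hr hrs => h r hr hrs⟩

variable {r₀ : ℕ} [Fact r₀.Prime] {V : Type*} [AddCommGroup V] [Module (ZMod r₀) V] [Finite V]
variable {A : Type*} [Group A] [Finite A] {φ : A →* Module.End (ZMod r₀) V} {w₁ : V}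

theorem TL.one_lt (H : TL r₀ V A φ w₁) : 1 < Nat.card V := by
  have : Nontrivial V := ⟨⟨w₁, 0, H.ne⟩⟩
  exact Finite.one_lt_card

theorem card_V : Nat.card V = r₀ ^ finrank (ZMod r₀) V := by
  have : FiniteDimensional (ZMod r₀) V := Module.Finite.of_finite
  rw [Module.natCard_eq_pow_finrank (K := ZMod r₀), Nat.card_zmod]

theorem TL.ppd (H : TL r₀ V A φ w₁) {p : ℕ} (hp : p.Prime) {Q : Subgroup A} (hQ : Q.Normal) (hQ1 : Q ≠ ⊥)
    (hQp : IsPGroup p ↥Q)
    (hyp : ∀ r : ℕ, r.Prime → r ≠ p → (Nat.card V - 1).factorization r ≤ (Nat.card (stab φ w₁)).factorization r)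
    {r : ℕ} (hr : r.Prime) (hrd : ∀ m, r ∣ r₀ ^ m - 1 ↔ finrank (ZMod r₀) V ∣ m) :
    ∃ k, Nat.card V - 1 = p ^ k := by
  classical
  have : FiniteDimensional (ZMod r₀) V := Module.Finite.of_finite
  have hV := card_V (r₀ := r₀) (V := V)
  have hone := H.one_lt
  set d := finrank (ZMod r₀) V with hd
  have hd0 : d ≠ 0 := by
    intro h
    rw [h, pow_zero] at hV
    omega
  have hcF : Nat.card (ZMod r₀) = r₀ := Nat.card_zmod r₀
  have hpn : r ∣ Nat.card (ZMod r₀) ^ finrank (ZMod r₀) V - 1 := by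
    rw [hcF]; exact (hrd _).2 dvd_rfl
  have hpd : ∀ e, 0 < e → e < finrank (ZMod r₀) V → ¬ r ∣ Nat.card (ZMod r₀) ^ e - 1 := by
    intro e h0 h1 h2
    rw [hcF] at h2
    exact absurd (Nat.le_of_dvd h0 ((hrd e).1 h2)) (by omega)
  have hV1 : Nat.card V - 1 ≠ 0 := by omega
  have hrV : r ∣ Nat.card V - 1 := by rw [hV]; exact (hrd _).2 dvd_rfl
  -- r = p
  have hrp : r = p := by
    by_contra hne
    have h1 := hyp r hr hne
    have h2 : 0 < (Nat.card V - 1).factorization r := hr.factorization_pos_of_dvd hV1 hrV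
    have h3 : r ∣ Nat.card (stab φ w₁) := by
      by_contra h4
      rw [Nat.factorization_eq_zero_of_not_dvd h4] at h1
      omega
    have : Fact r.Prime := ⟨hr⟩
    obtain ⟨t, ht⟩ := exists_prime_orderOf_dvd_card' r h3
    have h5 : φ t ^ r = 1 := by
      rw [← map_pow]
      have : (t : A) ^ r = 1 := by
        rw [← Subgroup.coe_pow, ← ht, pow_orderOf_eq_one]; rfl
      rw [this, map_one]
    have h6 : φ t ≠ 1 := by
      intro h
      have : (t : A) = 1 := H.inj (by rw [h, map_one])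
      have h7 : t = 1 := Subtype.ext this
      rw [h7, orderOf_one] at ht
      exact hr.one_lt.ne ht
    have h7 := ker_sub_one_eq_bot hr h5 h6 hpn hpd
    have h8 : w₁ ∈ LinearMap.ker (φ t - 1) := by
      rw [LinearMap.mem_ker, LinearMap.sub_apply, sub_eq_zero]
      exact t.2
    rw [h7, Submodule.mem_bot] at h8
    exact H.ne h8
  subst hrp
  have : Fact r.Prime := ⟨hr⟩
  -- an element of order `p` of the center of `Q`
  have hQn : Nontrivial Q := (Subgroup.nontrivial_iff_ne_bot Q).2 hQ1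
  have hZn : Nontrivial (Subgroup.center ↥Q) := hQp.center_nontrivial
  have hZp : IsPGroup r (Subgroup.center ↥Q) := hQp.to_subgroup _
  obtain ⟨z₀, hz₀⟩ : ∃ z : Subgroup.center ↥Q, orderOf z = r := by
    have h1 : r ∣ Nat.card (Subgroup.center ↥Q) := by
      obtain ⟨k, hk0, hk⟩ := hZp.nontrivial_iff_card.1 hZn
      rw [hk]; exact dvd_pow_self r hk0.ne'
    exact exists_prime_orderOf_dvd_card' r h1
  set z : A := ((z₀ : Q) : A) with hz
  have hzo : orderOf z = r := by rw [hz, Subgroup.orderOf_coe, Subgroup.orderOf_coe, hz₀]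
  have hzQ : z ∈ Q := (z₀ : Q).2
  have hzc : ∀ y ∈ Q, y * z = z * y := by
    intro y hy
    have := Subgroup.mem_center_iff.1 z₀.2 ⟨y, hy⟩
    exact congrArg Subtype.val this
  have hgp : φ z ^ r = 1 := by rw [← map_pow, ← hzo, pow_orderOf_eq_one, map_one]
  have hg1 : φ z ≠ 1 := by
    intro h
    have h7 : z = 1 := H.inj (by rw [h, map_one])
    rw [h7, orderOf_one] at hzo
    exact hr.one_lt.ne hzo
  have hfrob : ∀ t : A, ∃ k : ℕ, t * z * t⁻¹ = z ^ r₀ ^ k := by
    intro t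
    have h1 : Commute (φ (t * z * t⁻¹)) (φ z) := by
      have h2 := hzc (t * z * t⁻¹) (hQ.conj_mem z hzQ t)
      change φ (t * z * t⁻¹) * φ z = φ z * φ (t * z * t⁻¹)
      rw [← map_mul, h2, map_mul]
    obtain ⟨k, hk⟩ := exists_frob (F := ZMod r₀) hr hgp hg1 hpn hpd h1
      ⟨φ.toHomUnits t, by
        rw [map_mul, map_mul]
        congr 1⟩
    refine ⟨k, H.inj ?_⟩
    rw [hk, hcF, map_pow]
  choose κ hκ using hfrob
  have hmod : ∀ i j : ℕ, z ^ r₀ ^ i = z ^ r₀ ^ j → ((i : ZMod d) = (j : ZMod d)) := by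
    have key : ∀ i j : ℕ, i ≤ j → z ^ r₀ ^ i = z ^ r₀ ^ j → ((i : ZMod d) = (j : ZMod d)) := by
      intro i j hij h
      rw [pow_eq_pow_iff_modEq, hzo] at h
      have h1 : r ∣ r₀ ^ j - r₀ ^ i := (Nat.modEq_iff_dvd' (Nat.pow_le_pow_right (Fact.out : r₀.Prime).pos hij)).1 h
      have h2 : r₀ ^ j - r₀ ^ i = r₀ ^ i * (r₀ ^ (j - i) - 1) := by
        rw [Nat.mul_sub, mul_one, ← pow_add, Nat.add_sub_cancel' hij]
      rw [h2] at h1
      rcases hr.dvd_mul.1 h1 with h3 | h3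
      · have h4 : r ∣ r₀ := hr.dvd_of_dvd_pow h3
        have h5 : r ∣ r₀ ^ d := dvd_pow h4 hd0
        have h6 : r ∣ 1 := by
          have h7 := (hrd d).2 dvd_rfl
          have := Nat.dvd_sub h5 h7
          rwa [Nat.sub_sub_self (Nat.one_le_pow _ _ (Fact.out : r₀.Prime).pos)] at this
        exact absurd (Nat.dvd_one.1 h6) hr.one_lt.ne'
      · have h4 : d ∣ j - i := (hrd _).1 h3
        rw [eq_comm, ← sub_eq_zero, ← Nat.cast_sub hij]
        exact (ZMod.natCast_eq_zero_iff _ _).2 h4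
    intro i j h
    rcases le_total i j with h1 | h1
    · exact key i j h1 h
    · exact (key j i h1 h.symm).symm
  let f : stab φ w₁ →* Multiplicative (ZMod d) :=
    { toFun := fun t => Multiplicative.ofAdd ((κ t : ℕ) : ZMod d)
      map_one' := by
        have h1 : z ^ r₀ ^ κ 1 = z ^ r₀ ^ 0 := by
          rw [← hκ]; simp
        have h2 := hmod _ _ h1
        have h3 : ((κ ((1 : stab φ w₁) : A) : ℕ) : ZMod d) = 0 := by
          rw [Subgroup.coe_one, h2, Nat.cast_zero]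
        rw [h3]; rfl
      map_mul' := by
        intro s t
        have h1 : z ^ r₀ ^ κ ((s : A) * (t : A)) = z ^ r₀ ^ (κ s + κ t) := by
          rw [← hκ]
          calc (s : A) * t * z * ((s : A) * t)⁻¹ = s * (t * z * (t : A)⁻¹) * (s : A)⁻¹ := by group
            _ = (s * z * (s : A)⁻¹) ^ r₀ ^ κ t := by rw [hκ, ← conj_pow]
            _ = _ := by rw [hκ, ← pow_mul, ← pow_add]
        have h2 := hmod _ _ h1
        change Multiplicative.ofAdd ((κ ((s : A) * (t : A)) : ℕ) : ZMod d) = _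
        rw [h2, Nat.cast_add]; rfl }
  have hf : Function.Injective f := by
    rw [injective_iff_map_eq_one]
    intro t ht
    have h1 : ((κ t : ℕ) : ZMod d) = 0 := ht
    have h2 : d ∣ κ t := (ZMod.natCast_eq_zero_iff _ _).1 h1
    have h3 : r ∣ r₀ ^ κ t - 1 := (hrd _).2 h2
    have h4 : (t : A) * z * (t : A)⁻¹ = z := by
      rw [hκ]
      have h5 : r₀ ^ κ t ≡ 1 [MOD r] :=
        ((Nat.modEq_iff_dvd' (Nat.one_le_pow _ _ (Fact.out : r₀.Prime).pos)).2 h3).symm
      calc z ^ r₀ ^ κ t = z ^ 1 := by rw [pow_eq_pow_iff_modEq, hzo]; exact h5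
        _ = z := pow_one z
    have h5 : (t : A) * z = z * t := mul_inv_eq_iff_eq_mul.1 h4
    have h6 : ∀ w ∈ LinearMap.ker (φ t - 1), φ z w ∈ LinearMap.ker (φ t - 1) := by
      intro w hw
      rw [LinearMap.mem_ker, LinearMap.sub_apply, sub_eq_zero] at hw ⊢
      change (φ t * φ z) w = φ z w
      rw [← map_mul, h5, map_mul]
      change φ z (φ t w) = φ z w
      have : φ t w = w := hw
      rw [this]
    rcases invariant_eq_bot_or_top hr hgp hg1 hpn hpd _ h6 with h7 | h7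
    · exfalso
      have h8 : w₁ ∈ LinearMap.ker (φ t - 1) := by
        rw [LinearMap.mem_ker, LinearMap.sub_apply, sub_eq_zero]
        exact t.2
      rw [h7, Submodule.mem_bot] at h8
      exact H.ne h8
    · have h8 : φ t = 1 := by
        rw [LinearMap.ker_eq_top, sub_eq_zero] at h7
        exact h7
      exact Subtype.ext (H.inj (by rw [h8, Subgroup.coe_one, map_one]))
  have hdvd : Nat.card (stab φ w₁) ∣ d := by
    have := Subgroup.card_dvd_of_injective f hf
    rwa [Nat.card_congr (Multiplicative.toAdd), Nat.card_zmod] at this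
  refine eq_pow_of_primes hV1 fun q hq hqV => ?_
  by_contra hne
  have h1 := hyp q hq hne
  have h2 : (Nat.card (stab φ w₁)).factorization q ≤ d.factorization q :=
    (Nat.factorization_le_iff_dvd Nat.card_pos.ne' hd0).2 hdvd q
  rw [hV] at h1 hqV
  have h3 := fact_lt hq hd0 (Fact.out : r₀.Prime).two_le hqV
  omega

theorem TL.dim_one (H : TL r₀ V A φ w₁) {p : ℕ}
    (hyp : ∀ r : ℕ, r.Prime → r ≠ p → (Nat.card V - 1).factorization r ≤ (Nat.card (stab φ w₁)).factorization r)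
    (hd : finrank (ZMod r₀) V = 1) : ∃ k, Nat.card V - 1 = p ^ k := by
  have hone := H.one_lt
  have h1 := H.card_stab_dvd (d := 0) hd
  rw [Finset.univ_eq_empty, Finset.prod_empty, Nat.dvd_one] at h1
  refine eq_pow_of_primes (by omega) fun q hq hqV => ?_
  by_contra hne
  have h2 := hyp q hq hne
  rw [h1, Nat.factorization_one] at h2
  have h3 := hq.factorization_pos_of_dvd (by omega) hqV
  simp at h2
  omega

theorem TL.dim_two (H : TL r₀ V A φ w₁) {p : ℕ}
    (hyp : ∀ r : ℕ, r.Prime → r ≠ p → (Nat.card V - 1).factorization r ≤ (Nat.card (stab φ w₁)).factorization r)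
    (hd : finrank (ZMod r₀) V = 2) {k : ℕ} (hk : r₀ + 1 = 2 ^ k) :
    (∃ k : ℕ, Nat.card V - 1 = p ^ k) ∨ (p = 2 ∧ ∃ k : ℕ, 7 ≤ r₀ ∧ r₀ + 1 = 2 ^ k ∧ Nat.card V = r₀ ^ 2) := by
  have hV := card_V (r₀ := r₀) (V := V)
  rw [hd] at hV
  have hr0 := (Fact.out : r₀.Prime).two_le
  have hk2 : 2 ≤ k := by
    rcases k with _ | _ | k
    · omega
    · omega
    · omega
  have h4 : 4 ∣ r₀ + 1 := by
    rw [hk, show (4 : ℕ) = 2 ^ 2 by norm_num]
    exact pow_dvd_pow 2 hk2
  obtain ⟨m, hm⟩ := h4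
  by_cases hp : p = 2
  · subst hp
    by_cases h3 : r₀ = 3
    · left
      refine ⟨3, ?_⟩
      rw [hV, h3]
      norm_num
    · right
      refine ⟨rfl, k, by omega, hk, hV⟩
  · exfalso
    have h1 := hyp 2 Nat.prime_two (Ne.symm hp)
    have h2 := H.card_stab_dvd (d := 1) hd
    rw [Fin.prod_univ_one] at h2
    simp only [Fin.val_zero, zero_add, pow_one, Nat.reduceAdd] at h2
    -- 8 ∣ r₀ ^ 2 - 1
    have hV1 : Nat.card V - 1 ≠ 0 := by have := H.one_lt; omega
    have h8 : 2 ^ 3 ∣ Nat.card V - 1 := by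
      rw [hV]
      have e1 : r₀ ^ 2 - 1 = (r₀ + 1) * (r₀ - 1) := by
        have := Nat.sq_sub_sq r₀ 1
        rwa [one_pow] at this
      rw [e1, hm]
      have e2 : r₀ - 1 = 2 * (2 * m - 1) := by omega
      rw [e2]
      exact ⟨m * (2 * m - 1), by ring⟩
    have h9 := (Nat.prime_two.pow_dvd_iff_le_factorization hV1).1 h8
    have h10 : 2 ^ 3 ∣ Nat.card (stab φ w₁) :=
      (Nat.prime_two.pow_dvd_iff_le_factorization Nat.card_pos.ne').2 (h9.trans h1)
    have h11 := h10.trans h2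
    have e3 : r₀ ^ 2 - r₀ = r₀ * (2 * (2 * m - 1)) := by
      have : r₀ ^ 2 - r₀ = r₀ * (r₀ - 1) := by
        rw [Nat.mul_sub, mul_one, sq]
      rw [this]
      congr 1
      omega
    rw [e3] at h11
    have hodd : ¬ 2 ∣ r₀ := by omega
    have hc : Nat.Coprime (2 ^ 3) r₀ := ((Nat.prime_two.coprime_iff_not_dvd).2 hodd).pow_left 3
    have h12 := hc.dvd_of_dvd_mul_left h11
    omega

end Cfsg.Agent.H482.Tab
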