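import Mathlib
import Cfsg.Agent.LieExceptional.SingerCentralizer

/-!
# Elements of prime order acting irreducibly: conjugates commuting with `g` are Frobenius powers (S3414, TAB1c)
-/

set_option autoImplicit false

namespace Cfsg.Agent.H482.Tab

open Module Cfsg.Agent.LieExceptional.SingerCentralizer

variable {F V : Type*} [Field F] [Finite F] [AddCommGroup V] [Module F V] [FiniteDimensional F V]
variable {g : Module.End F V} {p : ℕ}

theorem aeval_pow_card {R : Type*} [CommRing R] [Algebra F R] (y : R) (P : Polynomial F) (k : ℕ)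
    (h : Polynomial.aeval y P = 0) : Polynomial.aeval (y ^ Nat.card F ^ k) P = 0 := by
  classical
  let _ : Fintype F := Fintype.ofFinite F
  induction k with
  | zero => rwa [pow_zero, pow_one]
  | succ k ih =>
    rw [pow_succ, pow_mul]
    have h1 := FiniteField.expand_card P
    have h2 : Polynomial.aeval ((y ^ Nat.card F ^ k) ^ Fintype.card F) P =
        (Polynomial.aeval (y ^ Nat.card F ^ k) P) ^ Fintype.card F := by
      rw [← map_pow, ← h1, Polynomial.expand_aeval]
    rw [Nat.card_eq_fintype_card] at *
    rw [h2, ih, zero_pow Fintype.card_ne_zero]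

theorem exists_frob (hp : p.Prime) (hgp : g ^ p = 1) (hg1 : g ≠ 1)
    (hpn : p ∣ Nat.card F ^ finrank F V - 1)
    (hpd : ∀ d, 0 < d → d < finrank F V → ¬ p ∣ Nat.card F ^ d - 1)
    {x : Module.End F V} (hx : Commute x g)
    (hconj : ∃ u : (Module.End F V)ˣ, x = u * g * (u⁻¹ : (Module.End F V)ˣ)) :
    ∃ k, x = g ^ Nat.card F ^ k := by
  classical
  have : Finite V := Module.finite_of_finite F
  have : Finite (Module.End F V) := Module.finite_of_finite F
  have hdom := isDomain_centralizer hp hgp hg1 hpn hpd
  have hfield := Finite.isDomain_to_isField (Subalgebra.centralizer F ({g} : Set (Module.End F V)))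
  let _ : CommRing (Subalgebra.centralizer F ({g} : Set (Module.End F V))) :=
    { (inferInstance : Ring (Subalgebra.centralizer F ({g} : Set (Module.End F V)))) with
      mul_comm := hfield.mul_comm }
  let _ : Algebra F (Subalgebra.centralizer F ({g} : Set (Module.End F V))) :=
    Subalgebra.algebra _
  have : IsDomain (Subalgebra.centralizer F ({g} : Set (Module.End F V))) := hdom
  let g' : Subalgebra.centralizer F ({g} : Set (Module.End F V)) :=
    ⟨g, (Subalgebra.mem_centralizer_iff F).2 (fun x hx => by rw [Set.mem_singleton_iff.1 hx])⟩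
  let x' : Subalgebra.centralizer F ({g} : Set (Module.End F V)) :=
    ⟨x, (Subalgebra.mem_centralizer_iff F).2 (fun y hy => by
        rw [Set.mem_singleton_iff.1 hy]; exact hx.symm)⟩
  have hval : ∀ (y : Subalgebra.centralizer F ({g} : Set (Module.End F V))) (P : Polynomial F),
      ((Polynomial.aeval y P : Subalgebra.centralizer F ({g} : Set (Module.End F V))) : Module.End F V) =
        Polynomial.aeval (y : Module.End F V) P := fun y P =>
    (Polynomial.aeval_algHom_apply (Subalgebra.val _) y P).symm
  have hrg : Polynomial.aeval g' (LinearMap.charpoly g) = 0 := by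
    apply Subtype.ext
    rw [hval]
    change Polynomial.aeval g (LinearMap.charpoly g) = 0
    exact LinearMap.aeval_self_charpoly g
  have hrx : Polynomial.aeval x' (LinearMap.charpoly g) = 0 := by
    apply Subtype.ext
    rw [hval]
    change Polynomial.aeval x (LinearMap.charpoly g) = 0
    obtain ⟨u, hu⟩ := hconj
    rw [hu]
    have h2 : ∀ P : Polynomial F, Polynomial.aeval ((u : Module.End F V) * g * (u⁻¹ : (Module.End F V)ˣ)) P =
        u * Polynomial.aeval g P * (u⁻¹ : (Module.End F V)ˣ) := by
      intro P
      induction P using Polynomial.induction_on' with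
      | add a b ha hb => rw [map_add, map_add, ha, hb, mul_add, add_mul]
      | monomial n c =>
        rw [Polynomial.aeval_monomial, Polynomial.aeval_monomial, Units.conj_pow,
          Algebra.algebraMap_eq_smul_one, smul_mul_assoc, smul_mul_assoc, one_mul, one_mul,
          mul_smul_comm, smul_mul_assoc]
    rw [h2, LinearMap.aeval_self_charpoly, mul_zero, zero_mul]
  set S := ((LinearMap.charpoly g).aroots
      (Subalgebra.centralizer F ({g} : Set (Module.End F V)))).toFinset with hS
  have hmem : ∀ y : Subalgebra.centralizer F ({g} : Set (Module.End F V)),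
      Polynomial.aeval y (LinearMap.charpoly g) = 0 → y ∈ S := by
    intro y hy
    rw [hS, Multiset.mem_toFinset, Polynomial.mem_aroots]
    exact ⟨(LinearMap.charpoly_monic g).ne_zero, hy⟩
  have hScard : S.card ≤ finrank F V := by
    refine (Multiset.toFinset_card_le _).trans ?_
    refine (Polynomial.card_roots' _).trans ?_
    rw [(LinearMap.charpoly_monic g).natDegree_map, LinearMap.charpoly_natDegree]
  let e : Fin (finrank F V) → Subalgebra.centralizer F ({g} : Set (Module.End F V)) :=
    fun k => g' ^ Nat.card F ^ (k : ℕ)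
  have : Fact p.Prime := ⟨hp⟩
  obtain ⟨gu, hgu⟩ : ∃ gu : (Module.End F V)ˣ, (gu : Module.End F V) = g :=
    ⟨Units.ofPowEqOne g p hgp hp.ne_zero, rfl⟩
  have hord : orderOf gu = p := by
    rw [← orderOf_units, hgu]
    exact orderOf_eq_prime hgp hg1
  have hq : 0 < Nat.card F := Nat.card_pos
  have he : Function.Injective e := by
    have key : ∀ i j : ℕ, i < j → j < finrank F V → g ^ Nat.card F ^ i ≠ g ^ Nat.card F ^ j := by
      intro i j hij hj heq
      rw [← hgu, ← Units.val_pow_eq_pow_val, ← Units.val_pow_eq_pow_val] at heq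
      replace heq := Units.ext heq
      rw [pow_eq_pow_iff_modEq, hord] at heq
      have h1 : p ∣ Nat.card F ^ j - Nat.card F ^ i := (Nat.modEq_iff_dvd' (Nat.pow_le_pow_right hq hij.le)).1 heq
      have h2 : Nat.card F ^ j - Nat.card F ^ i = Nat.card F ^ i * (Nat.card F ^ (j - i) - 1) := by
        rw [Nat.mul_sub, mul_one, ← pow_add, Nat.add_sub_cancel' hij.le]
      rw [h2] at h1
      rcases hp.dvd_mul.1 h1 with h3 | h3
      · have h4 : p ∣ Nat.card F := hp.dvd_of_dvd_pow h3
        have h5 : p ∣ Nat.card F ^ finrank F V := dvd_pow h4 (by omega)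
        have h6 : p ∣ 1 := by
          have := Nat.dvd_sub h5 hpn
          rwa [Nat.sub_sub_self (Nat.one_le_pow _ _ hq)] at this
        exact hp.one_lt.ne' (Nat.dvd_one.1 h6)
      · exact hpd (j - i) (by omega) (by omega) h3
    intro i j hij
    have h0 : g ^ Nat.card F ^ (i : ℕ) = g ^ Nat.card F ^ (j : ℕ) := congrArg Subtype.val hij
    rcases lt_trichotomy (i : ℕ) (j : ℕ) with h | h | h
    · exact absurd h0 (key _ _ h j.2)
    · exact Fin.ext h
    · exact absurd h0.symm (key _ _ h i.2)
  have himg : Finset.univ.image e ⊆ S := by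
    intro y hy
    obtain ⟨k, -, rfl⟩ := Finset.mem_image.1 hy
    exact hmem _ (aeval_pow_card g' _ k hrg)
  have hcard : (Finset.univ.image e).card = finrank F V := by
    rw [Finset.card_image_of_injective _ he, Finset.card_univ, Fintype.card_fin]
  have heq : Finset.univ.image e = S := Finset.eq_of_subset_of_card_le himg (by rw [hcard]; exact hScard)
  have hxS := hmem x' hrx
  rw [← heq] at hxS
  obtain ⟨k, -, hk⟩ := Finset.mem_image.1 hxS
  refine ⟨k, ?_⟩
  have := congrArg Subtype.val hk
  exact this.symm

end Cfsg.Agent.H482.Tab
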