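import Mathlib
import Cfsg.Agent.H482.Tab.Frob
import Cfsg.Agent.Lib.Zsigmondy

/-!
# Transitive linear groups with a normal `p`-subgroup (S3414, TAB1c)

`φ : A → End V` faithful, transitive on the non-zero vectors, `T` the stabilizer of `w₁ ≠ 0`.
-/

set_option autoImplicit false
set_option linter.unusedSectionVars false
set_option linter.style.haveILetI false

namespace Cfsg.Agent.H482.Tab

open Module Cfsg.Agent.LieExceptional.SingerCentralizer

/-- linear action -/
structure TL (r₀ : ℕ) [Fact r₀.Prime] (V : Type*) [AddCommGroup V] [Module (ZMod r₀) V] (A : Type*) [Group A]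
    (φ : A →* Module.End (ZMod r₀) V) (w₁ : V) : Prop where
  inj : Function.Injective φ
  tr : ∀ v w : V, v ≠ 0 → w ≠ 0 → ∃ g, φ g v = w
  ne : w₁ ≠ 0

section

variable {r₀ : ℕ} [Fact r₀.Prime] {V : Type*} [AddCommGroup V] [Module (ZMod r₀) V]
variable {A : Type*} [Group A] (φ : A →* Module.End (ZMod r₀) V)

/-- the action -/
@[reducible] def act : MulAction A V where
  smul g v := φ g v
  one_smul v := by change φ 1 v = v; rw [map_one]; rfl
  mul_smul g h v := by change φ (g * h) v = φ g (φ h v); rw [map_mul]; rfl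

/-- the stabilizer -/
def stab (w : V) : Subgroup A where
  carrier := {g | φ g w = w}
  one_mem' := by change φ 1 w = w; rw [map_one]; rfl
  mul_mem' := by
    intro a b ha hb
    change φ (a * b) w = w
    rw [map_mul]
    change φ a (φ b w) = w
    rw [show φ b w = w from hb]; exact ha
  inv_mem' := by
    intro a ha
    change φ a⁻¹ w = w
    have h : φ a⁻¹ (φ a w) = w := by
      change (φ a⁻¹ * φ a) w = w
      rw [← map_mul, inv_mul_cancel, map_one]; rfl
    rwa [show φ a w = w from ha] at h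

theorem mem_stab {w : V} {g : A} : g ∈ stab φ w ↔ φ g w = w := Iff.rfl

theorem inv_apply (g : A) (v : V) : φ g⁻¹ (φ g v) = v := by
  change (φ g⁻¹ * φ g) v = v
  rw [← map_mul, inv_mul_cancel, map_one]; rfl

theorem apply_inv (g : A) (v : V) : φ g (φ g⁻¹ v) = v := by
  change (φ g * φ g⁻¹) v = v
  rw [← map_mul, mul_inv_cancel, map_one]; rfl

theorem exists_fixed [Finite V] {Q : Subgroup A} {q : ℕ} (hq : q.Prime) [Finite Q] (hQ : IsPGroup q ↥Q) (U : Set V)
    (hU : ∀ g ∈ Q, ∀ u ∈ U, φ g u ∈ U) (h0 : (0 : V) ∈ U) (hmod : ¬ Nat.card U ≡ 1 [MOD q]) :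
    ∃ u ∈ U, u ≠ 0 ∧ ∀ g ∈ Q, φ g u = u := by
  classical
  by_contra hcon
  push Not at hcon
  have : Fact q.Prime := ⟨hq⟩
  letI : MulAction ↥Q ↥U :=
    { smul := fun g u => ⟨φ g u, hU g g.2 u u.2⟩
      one_smul := fun u => Subtype.ext (by
        change φ (1 : A) u = u
        rw [map_one]; rfl)
      mul_smul := fun g h u => Subtype.ext (by
        change φ ((g : A) * (h : A)) u = φ g (φ h u)
        rw [map_mul]; rfl) }
  have h1 := hQ.card_modEq_card_fixedPoints ↥U
  apply hmod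
  refine h1.trans ?_
  have h2 : Nat.card (MulAction.fixedPoints ↥Q ↥U) = 1 := by
    rw [Nat.card_eq_one_iff_unique]
    constructor
    · constructor
      rintro ⟨⟨u, hu⟩, hu'⟩ ⟨⟨v, hv⟩, hv'⟩
      have key : ∀ (u : V) (hu : u ∈ U), (⟨u, hu⟩ : U) ∈ MulAction.fixedPoints ↥Q ↥U → u = 0 := by
        intro u hu hu'
        by_contra hne
        obtain ⟨g, hg, hgu⟩ := hcon u hu hne
        exact hgu (congrArg Subtype.val (hu' ⟨g, hg⟩))
      have e1 := key u hu hu'
      have e2 := key v hv hv'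
      subst e1; subst e2
      rfl
    · refine ⟨⟨⟨0, h0⟩, fun g => Subtype.ext ?_⟩⟩
      exact map_zero _
  rw [h2]

end

namespace TL

variable {r₀ : ℕ} [Fact r₀.Prime] {V : Type*} [AddCommGroup V] [Module (ZMod r₀) V] [Finite V]
variable {A : Type*} [Group A] [Finite A] {φ : A →* Module.End (ZMod r₀) V} {w₁ : V} (H : TL r₀ V A φ w₁)

include H

theorem card_A : Nat.card A = (Nat.card V - 1) * Nat.card (stab φ w₁) := by
  classical
  letI := act φ
  have h1 : MulAction.stabilizer A w₁ = stab φ w₁ := by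
    ext g; exact Iff.rfl
  have h2 := MulAction.index_stabilizer A w₁
  have h3 : MulAction.orbit A w₁ = {v | v ≠ 0} := by
    ext v
    constructor
    · rintro ⟨g, rfl⟩ h
      apply H.ne
      rw [← inv_apply φ g w₁]
      change φ g⁻¹ (g • w₁) = 0
      have : g • w₁ = 0 := h
      rw [this, map_zero]
    · intro hv
      obtain ⟨g, hg⟩ := H.tr w₁ v H.ne hv
      exact ⟨g, hg⟩
  rw [h3] at h2
  have h4 : ({v | v ≠ 0} : Set V).ncard = Nat.card V - 1 := by
    have h5 : ({v | v ≠ 0} : Set V) = ({0} : Set V)ᶜ := by ext; simp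
    rw [h5, Set.ncard_compl, Set.ncard_singleton]
  rw [← h4, ← h2, ← h1, Subgroup.index_mul_card]

theorem no_fixed {Q : Subgroup A} (hQ : Q.Normal) (hQ1 : Q ≠ ⊥) : ¬ ∃ u : V, u ≠ 0 ∧ ∀ g ∈ Q, φ g u = u := by
  rintro ⟨u, hu, hfix⟩
  apply hQ1
  rw [eq_bot_iff]
  intro g hg
  rw [Subgroup.mem_bot]
  apply H.inj
  rw [map_one]
  apply LinearMap.ext
  intro v
  change φ g v = v
  by_cases hv : v = 0
  · rw [hv, map_zero]
  obtain ⟨a, rfl⟩ := H.tr u v hu hv
  have h1 := hfix (a⁻¹ * g * a) (by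
    have := hQ.conj_mem g hg a⁻¹
    rwa [inv_inv] at this)
  have h2 : φ (a * (a⁻¹ * g * a)) u = φ a u := by
    rw [map_mul]
    change φ a (φ (a⁻¹ * g * a) u) = φ a u
    rw [h1]
  have h3 : a * (a⁻¹ * g * a) = g * a := by group
  rw [h3, map_mul] at h2
  exact h2

/-- `|V| ≡ |C_V(X)|` -/
theorem card_modEq {q : ℕ} (hq : q.Prime) (t : A) (ht : ∃ k, t ^ q ^ k = 1) :
    Nat.card (LinearMap.ker (φ t - 1)) ≡ Nat.card V [MOD q] := by
  classical
  have : Fact q.Prime := ⟨hq⟩
  letI : MulAction (Subgroup.zpowers t) V :=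
    { smul := fun g v => φ g v
      one_smul := fun v => by change φ (1 : A) v = v; rw [map_one]; rfl
      mul_smul := fun g h v => by
        change φ ((g : A) * (h : A)) v = φ g (φ h v)
        rw [map_mul]; rfl }
  have hP : IsPGroup q (Subgroup.zpowers t) := by
    obtain ⟨k, hk⟩ := ht
    rintro ⟨_, m, rfl⟩
    refine ⟨k, Subtype.ext ?_⟩
    change (t ^ m) ^ q ^ k = 1
    rw [← zpow_natCast, ← zpow_mul, mul_comm, zpow_mul, zpow_natCast, hk, one_zpow]
  have h1 := hP.card_modEq_card_fixedPoints V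
  refine Nat.ModEq.symm (h1.trans ?_)
  have h2 : Nat.card (MulAction.fixedPoints (Subgroup.zpowers t) V) = Nat.card (LinearMap.ker (φ t - 1)) := by
    refine Nat.card_congr (Equiv.subtypeEquivRight fun v => ?_)
    rw [MulAction.mem_fixedPoints, LinearMap.mem_ker, LinearMap.sub_apply, sub_eq_zero]
    constructor
    · intro h
      exact h ⟨t, Subgroup.mem_zpowers t⟩
    · rintro h ⟨_, m, rfl⟩
      change φ (t ^ m) v = v
      have h3 : t ∈ stab φ v := h
      exact (stab φ v).zpow_mem h3 m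
  rw [h2]

theorem card_dvd_GL : Nat.card A ∣ ∏ i : Fin (finrank (ZMod r₀) V), (r₀ ^ finrank (ZMod r₀) V - r₀ ^ (i : ℕ)) := by
  classical
  have : FiniteDimensional (ZMod r₀) V := Module.Finite.of_finite
  have h1 : Nat.card (Matrix.GeneralLinearGroup (Fin (finrank (ZMod r₀) V)) (ZMod r₀)) =
      ∏ i : Fin (finrank (ZMod r₀) V), (r₀ ^ finrank (ZMod r₀) V - r₀ ^ (i : ℕ)) := by
    have := Matrix.card_GL_field (𝔽 := ZMod r₀) (finrank (ZMod r₀) V)
    rw [this, ZMod.card]
  rw [← h1]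
  let b := Module.finBasis (ZMod r₀) V
  let e : Module.End (ZMod r₀) V ≃* Matrix (Fin (finrank (ZMod r₀) V)) (Fin (finrank (ZMod r₀) V)) (ZMod r₀) :=
    (LinearMap.toMatrixAlgEquiv b).toMulEquiv
  let f : A →* Matrix.GeneralLinearGroup (Fin (finrank (ZMod r₀) V)) (ZMod r₀) :=
    (Units.map e.toMonoidHom).comp φ.toHomUnits
  refine Subgroup.card_dvd_of_injective f ?_
  intro x y hxy
  apply H.inj
  have h2 : e (φ x) = e (φ y) := congrArg Units.val hxy
  exact e.injective h2

theorem card_stab_dvd {d : ℕ} (hd : finrank (ZMod r₀) V = d + 1) :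
    Nat.card (stab φ w₁) ∣ ∏ i : Fin d, (r₀ ^ (d + 1) - r₀ ^ ((i : ℕ) + 1)) := by
  have : FiniteDimensional (ZMod r₀) V := Module.Finite.of_finite
  have h1 := H.card_dvd_GL
  rw [H.card_A, hd, Fin.prod_univ_succ] at h1
  have h2 : Nat.card V = r₀ ^ (d + 1) := by
    rw [Module.natCard_eq_pow_finrank (K := ZMod r₀), Nat.card_zmod, hd]
  rw [h2] at h1
  simp only [Fin.val_zero, pow_zero, Fin.val_succ] at h1
  refine Nat.dvd_of_mul_dvd_mul_left ?_ h1
  have h3 : 1 < r₀ ^ (d + 1) := Nat.one_lt_pow (by omega) (Fact.out : r₀.Prime).one_lt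
  omega

end TL

end Cfsg.Agent.H482.Tab
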