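import Cfsg.Agent.H482.Tab.Six
import Cfsg.Agent.H873.Tits.Stmts

/-!
# TAB1c of S3414: the affine 2-transitive groups
-/

set_option autoImplicit false
set_option linter.unusedSectionVars false
set_option linter.style.haveILetI false

namespace Cfsg.Agent.H482.Tab

open Module Cfsg.Agent.H873.Tits

theorem main_add {V : Type*} [AddCommGroup V] [Finite V] {A : Type*} [Group A] [Finite A] (f : A → V →+ V)
    (hf1 : ∀ v, f 1 v = v) (hfm : ∀ g h v, f (g * h) v = f g (f h v))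
    (hinj : ∀ g h, (∀ v, f g v = f h v) → g = h) (htr : ∀ v w : V, v ≠ 0 → w ≠ 0 → ∃ g, f g v = w) {w₁ : V}
    (hw₁ : w₁ ≠ 0)
    {p : ℕ} (hp : p.Prime) {Q : Subgroup A} (hQ : Q.Normal) (hQ1 : Q ≠ ⊥) (hQp : IsPGroup p ↥Q)
    (T : Subgroup A) (hT : ∀ g, g ∈ T ↔ f g w₁ = w₁)
    (hyp : ∀ r : ℕ, r.Prime → r ≠ p → (Nat.card V - 1).factorization r ≤ (Nat.card T).factorization r) :
    (∃ k : ℕ, Nat.card V - 1 = p ^ k) ∨
      (p = 2 ∧ ∃ r₀ k : ℕ, r₀.Prime ∧ 7 ≤ r₀ ∧ r₀ + 1 = 2 ^ k ∧ Nat.card V = r₀ ^ 2) := by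
  classical
  have hnt : Nontrivial V := ⟨⟨w₁, 0, hw₁⟩⟩
  have hone : 1 < Nat.card V := Finite.one_lt_card
  obtain ⟨r₀, hr₀, hdvd⟩ := Nat.exists_prime_and_dvd hone.ne'
  have : Fact r₀.Prime := ⟨hr₀⟩
  obtain ⟨w₀, hw₀⟩ := exists_prime_addOrderOf_dvd_card' r₀ hdvd
  have hw₀1 : w₀ ≠ 0 := by
    intro h
    rw [h, addOrderOf_zero] at hw₀
    exact hr₀.one_lt.ne hw₀
  have hexp : ∀ w : V, r₀ • w = 0 := by
    intro w
    by_cases hw : w = 0
    · rw [hw, smul_zero]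
    obtain ⟨g, rfl⟩ := htr w₀ w hw₀1 hw
    rw [← map_nsmul, ← hw₀, addOrderOf_nsmul_eq_zero, map_zero]
  letI : Module (ZMod r₀) V := AddCommGroup.zmodModule (n := r₀) hexp
  let φ : A →* Module.End (ZMod r₀) V :=
    { toFun := fun g => AddMonoidHom.toZModLinearMap r₀ (f g)
      map_one' := by
        apply LinearMap.ext
        intro v
        rw [AddMonoidHom.coe_toZModLinearMap, hf1, Module.End.one_apply]
      map_mul' := by
        intro g h
        apply LinearMap.ext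
        intro v
        rw [AddMonoidHom.coe_toZModLinearMap, hfm, Module.End.mul_apply, AddMonoidHom.coe_toZModLinearMap,
          AddMonoidHom.coe_toZModLinearMap] }
  have hφ : ∀ g (v : V), φ g v = f g v := fun g v => rfl
  have H : TL r₀ V A φ w₁ :=
    { inj := fun g h hgh => hinj g h fun v => by rw [← hφ, ← hφ, hgh]
      tr := fun v w hv hw => by
        obtain ⟨g, hg⟩ := htr v w hv hw
        exact ⟨g, hg⟩
      ne := hw₁ }
  have hTs : T = stab φ w₁ := by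
    ext g
    rw [hT, mem_stab, hφ]
  have hyp' : ∀ r : ℕ, r.Prime → r ≠ p →
      (Nat.card V - 1).factorization r ≤ (Nat.card (stab φ w₁)).factorization r := by
    intro r hr hrp
    rw [← hTs]
    exact hyp r hr hrp
  have hV := card_V (r₀ := r₀) (V := V)
  have hd0 : finrank (ZMod r₀) V ≠ 0 := by
    intro h
    rw [h, pow_zero] at hV
    omega
  by_cases hd1 : finrank (ZMod r₀) V = 1
  · exact Or.inl (H.dim_one hyp' hd1)
  by_cases h26 : r₀ = 2 ∧ finrank (ZMod r₀) V = 6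
  · exfalso
    obtain ⟨h2, h6⟩ := h26
    subst h2
    exact H.six hp hQ hQ1 hQp hyp' h6
  by_cases h2 : finrank (ZMod r₀) V = 2 ∧ ∃ k, r₀ + 1 = 2 ^ k
  · obtain ⟨hd2, k, hk⟩ := h2
    rcases H.dim_two hyp' hd2 hk with h | ⟨h1, k, h2, h3, h4⟩
    · exact Or.inl h
    · exact Or.inr ⟨h1, r₀, k, hr₀, h2, h3, h4⟩
  · obtain ⟨r, hr, hrd, -, -⟩ := Cfsg.Agent.Lib.Zsigmondy.exists_primitive hr₀.two_le
      (show 2 ≤ finrank (ZMod r₀) V by omega) (fun h3 h4 => h2 ⟨h3, h4⟩) h26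
    exact Or.inl (H.ppd hp hQ hQ1 hQp hyp' hr hrd)

theorem main_lin {W : Type*} [CommGroup W] [Finite W] {A : Type*} [Group A] [Finite A] (ψ : A →* MulAut W)
    (hinj : Function.Injective ψ) (htr : ∀ v w : W, v ≠ 1 → w ≠ 1 → ∃ g, ψ g v = w) {w₁ : W} (hw₁ : w₁ ≠ 1)
    {p : ℕ} (hp : p.Prime) {Q : Subgroup A} (hQ : Q.Normal) (hQ1 : Q ≠ ⊥) (hQp : IsPGroup p ↥Q)
    (T : Subgroup A) (hT : ∀ g, g ∈ T ↔ ψ g w₁ = w₁)
    (hyp : ∀ r : ℕ, r.Prime → r ≠ p → (Nat.card W - 1).factorization r ≤ (Nat.card T).factorization r) :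
    (∃ k : ℕ, Nat.card W - 1 = p ^ k) ∨
      (p = 2 ∧ ∃ r₀ k : ℕ, r₀.Prime ∧ 7 ≤ r₀ ∧ r₀ + 1 = 2 ^ k ∧ Nat.card W = r₀ ^ 2) :=
  main_add (V := Additive W) (A := A) (fun g => MonoidHom.toAdditive (ψ g).toMonoidHom)
    (fun v => by
      change Additive.ofMul (ψ 1 v.toMul) = v
      rw [map_one]; rfl)
    (fun g h v => by
      change Additive.ofMul (ψ (g * h) v.toMul) = Additive.ofMul (ψ g (ψ h v.toMul))
      rw [map_mul]; rfl)
    (fun g h H => hinj (MulEquiv.ext fun v => H (Additive.ofMul v)))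
    (fun v w hv hw => htr v.toMul w.toMul hv hw) (w₁ := Additive.ofMul w₁) hw₁ hp hQ hQ1 hQp T hT hyp

universe v

/-- TAB1c -/
theorem st_tab1c : StTab1c.{v} := by
  intro Ω _ L s p a b Q hL hAff hyp
  classical
  obtain ⟨W, hWL, hWn, hWc, hWt, hWs⟩ := hAff
  have hconj : ∀ g ∈ L, ∀ w ∈ W, g * w * g⁻¹ ∈ W := by
    intro g hg w hw
    have := hWn.conj_mem ⟨w, hWL hw⟩ (Subgroup.mem_subgroupOf.2 hw) ⟨g, hg⟩
    exact Subgroup.mem_subgroupOf.1 this
  have hreg : ∀ w ∈ W, ∀ w' ∈ W, w a = w' a → w = w' := by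
    intro w hw w' hw' h
    have h1 : (⟨w'⁻¹ * w, W.mul_mem (W.inv_mem hw') hw⟩ : W) ∈ MulAction.stabilizer W a := by
      rw [MulAction.mem_stabilizer_iff]
      change (w'⁻¹ * w) a = a
      rw [Equiv.Perm.mul_apply, Equiv.Perm.inv_eq_iff_eq]
      exact h
    rw [hWs a, Subgroup.mem_bot] at h1
    have h2 := congrArg Subtype.val h1
    exact (inv_mul_eq_one.1 h2).symm
  have hWcard : Nat.card W = s + 1 := by
    rw [← hL.card]
    refine Nat.card_eq_of_bijective (fun w : W => (w : Equiv.Perm Ω) a) ⟨?_, ?_⟩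
    · intro w w' h
      exact Subtype.ext (hreg w w.2 w' w'.2 h)
    · intro c
      obtain ⟨w, hw⟩ := hWt.exists_smul_eq a c
      exact ⟨w, hw⟩
  letI : CommGroup ↥W :=
    { (inferInstance : Group ↥W) with
      mul_comm := fun x y => hWc.is_comm.comm x y }
  let A := Stb L a
  have hAL : ∀ g ∈ A, g ∈ L := fun g hg => hg.1
  have hAa : ∀ g ∈ A, g a = a := fun g hg => hg.2
  let ψ : ↥A →* MulAut ↥W :=
    { toFun := fun g =>
        { toFun := fun w => ⟨(g : Equiv.Perm Ω) * w * (g : Equiv.Perm Ω)⁻¹, hconj g (hAL g g.2) w w.2⟩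
          invFun := fun w => ⟨(g : Equiv.Perm Ω)⁻¹ * w * (g : Equiv.Perm Ω), by
            have := hconj (g : Equiv.Perm Ω)⁻¹ (L.inv_mem (hAL g g.2)) w w.2
            rwa [inv_inv] at this⟩
          left_inv := fun w => Subtype.ext (by simp [mul_assoc])
          right_inv := fun w => Subtype.ext (by simp [mul_assoc])
          map_mul' := fun w w' => Subtype.ext (by simp [mul_assoc]) }
      map_one' := by
        apply MulEquiv.ext
        intro w
        apply Subtype.ext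
        change (1 : Equiv.Perm Ω) * w * (1 : Equiv.Perm Ω)⁻¹ = w
        simp
      map_mul' := by
        intro g h
        apply MulEquiv.ext
        intro w
        apply Subtype.ext
        change ((g : Equiv.Perm Ω) * h) * w * ((g : Equiv.Perm Ω) * h)⁻¹ = g * (h * w * (h : Equiv.Perm Ω)⁻¹) * (g : Equiv.Perm Ω)⁻¹
        group }
  have hψ : ∀ (g : A) (w : W), ((ψ g w : W) : Equiv.Perm Ω) = g * w * (g : Equiv.Perm Ω)⁻¹ := fun _ _ => rfl
  have hψa : ∀ (g : A) (w : W), ((ψ g w : W) : Equiv.Perm Ω) a = (g : Equiv.Perm Ω) ((w : Equiv.Perm Ω) a) := by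
    intro g w
    rw [hψ, Equiv.Perm.mul_apply, Equiv.Perm.mul_apply]
    have : (g : Equiv.Perm Ω)⁻¹ a = a := by
      rw [Equiv.Perm.inv_eq_iff_eq]; exact (hAa g g.2).symm
    rw [this]
  obtain ⟨w₁, hw₁⟩ : ∃ w : W, (w : Equiv.Perm Ω) a = b := hWt.exists_smul_eq a b
  have hw₁1 : w₁ ≠ 1 := by
    rintro rfl
    exact hL.ne hw₁
  have hinj : Function.Injective ψ := by
    intro g h hgh
    apply Subtype.ext
    apply Equiv.ext
    intro c
    obtain ⟨w, rfl⟩ : ∃ w : W, (w : Equiv.Perm Ω) a = c := hWt.exists_smul_eq a c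
    rw [← hψa, ← hψa, hgh]
  have htr : ∀ v w : W, v ≠ 1 → w ≠ 1 → ∃ g, ψ g v = w := by
    intro v w hv hw
    have h1 : a ≠ (v : Equiv.Perm Ω) a := fun h => hv (Subtype.ext (hreg v v.2 1 W.one_mem h.symm))
    have h2 : a ≠ (w : Equiv.Perm Ω) a := fun h => hw (Subtype.ext (hreg w w.2 1 W.one_mem h.symm))
    obtain ⟨g, hg, hga, hgv⟩ := hL.two a _ a _ h1 h2
    refine ⟨⟨g, hg, hga⟩, Subtype.ext (hreg _ (ψ _ v).2 _ w.2 ?_)⟩
    rw [hψa]
    exact hgv
  have hQ' : (Q.subgroupOf A).Normal := hL.Q_normal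
  have hQ1 : Q.subgroupOf A ≠ ⊥ := by
    rw [Ne, Subgroup.subgroupOf_eq_bot]
    intro h
    exact hL.Q_ne (by rw [← inf_eq_left.2 hL.Q_le, h.eq_bot])
  have hQp : IsPGroup p ↥(Q.subgroupOf A) :=
    hL.Q_p.of_injective ((A.subtype.comp (Q.subgroupOf A).subtype).codRestrict Q (fun x => Subgroup.mem_subgroupOf.1 x.2))
      (fun x y h => by
        have h2 := congrArg Subtype.val h
        exact Subtype.ext (Subtype.ext h2))
  have hTc : Nat.card ((Stb L b).subgroupOf A) = Nat.card ↥(Stb L a ⊓ Stb L b) := by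
    rw [inf_comm, ← Subgroup.inf_subgroupOf_right]
    exact Nat.card_congr (Subgroup.subgroupOfEquivOfLe inf_le_right).toEquiv
  have hmain := main_lin ψ hinj htr hw₁1 hL.prime hQ' hQ1 hQp ((Stb L b).subgroupOf A) (by
    intro g
    rw [Subgroup.mem_subgroupOf]
    constructor
    · intro h
      refine Subtype.ext (hreg _ (ψ g w₁).2 _ w₁.2 ?_)
      rw [hψa, hw₁]
      exact h.2
    · intro h
      refine ⟨hAL g g.2, ?_⟩
      change (g : Equiv.Perm Ω) b = b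
      rw [← hw₁, ← hψa, h]) (by
    intro r hr hrp
    rw [hTc, hWcard, Nat.add_sub_cancel]
    exact hyp r hr hrp)
  rw [hWcard, Nat.add_sub_cancel] at hmain
  exact hmain

end Cfsg.Agent.H482.Tab
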